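import Cfsg.Agent.SB.Trans
import Cfsg.Agent.S0248
import Cfsg.Agent.PLocal.SL2Perfect

/-!
# S5765, alternating row: the affine case (helper96)

`X` a transitive elementary abelian subgroup of `Sym Ω` normalised by the solvable group `S` with `MaxInv`.  Then
`|Ω|` is a prime or `9` (else `SL_k(r) ≤ S`), and some `A_n`-conjugate of `S` meets `X` trivially.
-/

set_option autoImplicit false

namespace Cfsg.Agent.SB.Alt

open Subgroup Equiv Equiv.Perm Cfsg

section elem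

variable {r : ℕ} [hr : Fact r.Prime]

theorem lin_equiv_aux {V : Type*} [AddCommGroup V] [Module (ZMod r) V] [Finite V] :
    ∃ k : ℕ, Nonempty (V ≃ₗ[ZMod r] (Fin k → ZMod r)) := by
  have : Module.Finite (ZMod r) V := Module.Finite.of_finite
  exact ⟨_, ⟨(Module.finBasis (ZMod r) V).equivFun⟩⟩

theorem exists_elem_equiv {A : Type*} [Group A] [Finite A] (hc : ∀ x y : A, x * y = y * x) (he : ∀ x : A, x ^ r = 1) :
    ∃ k : ℕ, Nonempty (A ≃* Multiplicative (Fin k → ZMod r)) := by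
  let _ : CommGroup A := { (inferInstance : Group A) with mul_comm := hc }
  let _ : Module (ZMod r) (Additive A) := AddCommGroup.zmodModule (fun x => by
    have := he (Additive.toMul x)
    exact congrArg Additive.ofMul this)
  obtain ⟨k, ⟨c⟩⟩ := lin_equiv_aux (r := r) (V := Additive A)
  exact ⟨k, ⟨AddEquiv.toMultiplicativeRight c.toAddEquiv⟩⟩

end elem

section aff

variable {Ω : Type*} {X : Subgroup (Perm Ω)}

/-- a transitive abelian group is self-centralising -/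
theorem mem_of_comm (hc : ∀ x ∈ X, ∀ y ∈ X, x * y = y * x) (ht : ∀ a b : Ω, ∃ x ∈ X, x a = b) {g : Perm Ω}
    (hg : ∀ x ∈ X, g * x = x * g) : g ∈ X := by
  rcases isEmpty_or_nonempty Ω with h | ⟨⟨o⟩⟩
  · have : g = 1 := Equiv.ext fun a => h.elim a
    rw [this]
    exact one_mem _
  obtain ⟨x, hx, hxo⟩ := ht o (g o)
  have : g = x := by
    ext a
    obtain ⟨y, hy, rfl⟩ := ht o a
    rw [← Perm.mul_apply, hg y hy, Perm.mul_apply, ← hxo, ← Perm.mul_apply, hc y hy x hx, Perm.mul_apply]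
  rw [this]
  exact hx

/-- coordinates for a transitive elementary abelian group -/
theorem exists_model [Finite Ω] [Nonempty Ω] {r : ℕ} [Fact r.Prime] (hc : ∀ x ∈ X, ∀ y ∈ X, x * y = y * x)
    (he : ∀ x ∈ X, x ^ r = 1) (ht : ∀ a b : Ω, ∃ x ∈ X, x a = b) :
    ∃ (k : ℕ) (e : (Fin k → ZMod r) ≃ Ω), Nat.card X = r ^ k ∧
      ∀ x : Perm Ω, x ∈ X ↔ ∃ w, x = e.permCongrHom (Equiv.addLeft w) := by
  obtain ⟨o⟩ := ‹Nonempty Ω›
  obtain ⟨k, ⟨c⟩⟩ := exists_elem_equiv (r := r) (A := X) (fun x y => Subtype.ext (hc x x.2 y y.2))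
    (fun x => Subtype.ext (he x x.2))
  have hb : Function.Bijective fun x : X => (x : Perm Ω) o := by
    constructor
    · intro x y h
      apply Subtype.ext
      ext a
      obtain ⟨z, hz, rfl⟩ := ht o a
      have h' : (x : Perm Ω) o = (y : Perm Ω) o := h
      rw [← Perm.mul_apply, hc x x.2 z hz, Perm.mul_apply, h', ← Perm.mul_apply, hc z hz y y.2, Perm.mul_apply]
    · intro a
      obtain ⟨z, hz, rfl⟩ := ht o a
      exact ⟨⟨z, hz⟩, rfl⟩
  let e : (Fin k → ZMod r) ≃ Ω := (Multiplicative.ofAdd.trans c.symm.toEquiv).trans (Equiv.ofBijective _ hb)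
  have he' : ∀ w, e w = (c.symm (Multiplicative.ofAdd w) : Perm Ω) o := fun _ => rfl
  have key : ∀ w, e.permCongrHom (Equiv.addLeft w) = (c.symm (Multiplicative.ofAdd w) : Perm Ω) := by
    intro w
    ext a
    obtain ⟨u, rfl⟩ := e.surjective a
    change e (Equiv.addLeft w (e.symm (e u))) = _
    rw [symm_apply_apply, Equiv.coe_addLeft, he', he', ofAdd_add, map_mul]
    rfl
  refine ⟨k, e, ?_, fun x => ⟨fun hx => ⟨Multiplicative.toAdd (c ⟨x, hx⟩), ?_⟩, ?_⟩⟩
  · rw [Nat.card_congr c.toEquiv, Nat.card_congr Multiplicative.toAdd, Nat.card_fun, Nat.card_zmod, Nat.card_fin]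
  · rw [key]
    simp
  · rintro ⟨w, rfl⟩
    rw [key]
    exact Subtype.coe_prop _

variable [Fintype Ω] [DecidableEq Ω] {S : Subgroup (Perm Ω)}

/-- `SL_k(r)` does not lie in `S` -/
theorem not_perfect_sl (hT : AS (alternatingGroup Ω)) (hS : Group.IsSolvable S) (hm : MaxInv (alternatingGroup Ω) S)
    (hXS : X ≤ S) (hX0 : X ≠ ⊥) (hXn : ∀ s ∈ S, ∀ x ∈ X, s * x * s⁻¹ ∈ X) {r k : ℕ} [Fact r.Prime]
    (e : (Fin k → ZMod r) ≃ Ω) (hX : ∀ x : Perm Ω, x ∈ X ↔ ∃ w, x = e.permCongrHom (Equiv.addLeft w))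
    (hk : 2 ≤ k) : _root_.commutator (Matrix.SpecialLinearGroup (Fin k) (ZMod r)) ≠ ⊤ := by
  intro hp
  let ψ : Matrix.SpecialLinearGroup (Fin k) (ZMod r) →* Perm Ω :=
    e.permCongrHom.toMonoidHom.comp (MulAction.toPermHom _ (Fin k → ZMod r))
  have hψ : ∀ M, ψ M ∈ S := by
    intro M
    refine hm.mem_of_normalizes hT hX0 (fun h => hT.not_le hS (h.trans hXS)) hXn ?_ ?_
    · have h1 := Abelianization.commutator_subset_ker (sign.comp ψ) (hp ▸ mem_top M)
      exact mem_alternatingGroup.2 h1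
    · intro x hx
      obtain ⟨w, rfl⟩ := (hX x).1 hx
      refine (hX _).2 ⟨M • w, ?_⟩
      change e.permCongrHom _ * e.permCongrHom _ * (e.permCongrHom _)⁻¹ = _
      rw [← map_inv, ← map_mul, ← map_mul]
      congr 1
      ext1 a
      simp [smul_add]
  have hr : ⁅ψ.range, ψ.range⁆ = ψ.range := by
    rw [MonoidHom.range_eq_map, ← map_commutator]
    exact congrArg _ hp
  have hsol : Group.IsSolvable ψ.range := by
    have h1 : ψ.range ≤ S := by
      rintro _ ⟨M, rfl⟩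
      exact hψ M
    exact Group.isSolvable_of_isSolvable_injective (f := inclusion h1) (inclusion_injective h1)
  have hne : Nontrivial ψ.range := by
    have h01 : (⟨0, by omega⟩ : Fin k) ≠ ⟨1, by omega⟩ := by simp
    refine ⟨⟨⟨ψ (Matrix.SpecialLinearGroup.transvection h01 1), _, rfl⟩, 1, fun h => ?_⟩⟩
    have h1 : ψ (Matrix.SpecialLinearGroup.transvection h01 1) = 1 := congrArg Subtype.val h
    have h2 : MulAction.toPermHom _ (Fin k → ZMod r) (Matrix.SpecialLinearGroup.transvection h01 (1 : ZMod r)) = 1 :=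
      (map_eq_one_iff _ e.permCongrHom.injective).1 h1
    have h3 := DFunLike.congr_fun h2 (Pi.single ⟨1, by omega⟩ 1)
    rw [MulAction.toPermHom_apply, MulAction.toPerm_apply, Matrix.SpecialLinearGroup.transvection_smul_single_snd] at h3
    have h4 := congrFun h3 ⟨0, by omega⟩
    simp at h4
  have h1 := Group.IsSolvable.commutator_lt_top_of_nontrivial ψ.range
  apply h1.ne
  apply map_injective ψ.range.subtype_injective
  rw [_root_.commutator, map_commutator, ← MonoidHom.range_eq_map, range_subtype, hr]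

/-- prime degree -/
theorem aff_prime (hT : AS (alternatingGroup Ω)) (hS : Group.IsSolvable S) (hm : MaxInv (alternatingGroup Ω) S)
    (hXS : X ≤ S) (hX0 : X ≠ ⊥) (hXn : ∀ s ∈ S, ∀ x ∈ X, s * x * s⁻¹ ∈ X) {r : ℕ} [hr : Fact r.Prime]
    (he : ∀ x ∈ X, x ^ r = 1) (hcX : Nat.card X = r) (hcΩ : Fintype.card Ω = r) :
    ∃ x ∈ alternatingGroup Ω, ∀ v ∈ X, x⁻¹ * v * x ∈ S → v = 1 := by
  obtain ⟨x, hx, hxS⟩ := SetLike.not_le_iff_exists.1 (hT.not_le hS)
  refine ⟨x, hx, fun v hv hvx => ?_⟩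
  by_contra hv1
  have hXp : IsPGroup r X := IsPGroup.iff_card.2 ⟨1, by rw [hcX, pow_one]⟩
  have hgr : (x⁻¹ * v * x) ^ r = 1 := by
    have := conj_pow (a := x⁻¹) (b := v) (i := r)
    rw [inv_inv] at this
    rw [this, he v hv]
    simp
  have hgp : IsPGroup r (zpowers (x⁻¹ * v * x)) := by
    rintro ⟨_, j, rfl⟩
    refine ⟨1, Subtype.ext ?_⟩
    change ((x⁻¹ * v * x) ^ j) ^ r ^ 1 = 1
    rw [pow_one, ← zpow_natCast, ← zpow_mul, mul_comm, zpow_mul, zpow_natCast, hgr, one_zpow]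
  have hP := hgp.to_sup_of_normal_right' hXp ((zpowers_le.2 hvx).trans (le_normalizer_of_conj hXn))
  obtain ⟨j, hj⟩ := hP.exists_card_eq
  have hdvd : r ^ j ∣ r.factorial := by
    rw [← hj, ← hcΩ, ← Fintype.card_perm, ← Nat.card_eq_fintype_card]
    exact card_subgroup_dvd_card _
  have hj1 : j ≤ 1 := by
    by_contra hcon
    have h2 : r ^ 2 ∣ r.factorial := (pow_dvd_pow r (by omega)).trans hdvd
    have h3 : r.factorial = r * (r - 1).factorial := (Nat.mul_factorial_pred hr.out.ne_zero).symm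
    rw [h3, pow_two] at h2
    have h4 := (hr.out.dvd_factorial).1 (Nat.dvd_of_mul_dvd_mul_left hr.out.pos h2)
    have := hr.out.pos
    omega
  have hXP : X = zpowers (x⁻¹ * v * x) ⊔ X := by
    refine eq_of_le_of_card_ge le_sup_right ?_
    rw [hj, hcX]
    calc r ^ j ≤ r ^ 1 := Nat.pow_le_pow_right hr.out.pos hj1
      _ = r := pow_one r
  have hg : x⁻¹ * v * x ∈ X := hXP ▸ mem_sup_left (mem_zpowers _)
  have hXv : zpowers v = X := by
    refine eq_of_le_of_card_ge (zpowers_le.2 hv) ?_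
    rw [Nat.card_zpowers, orderOf_eq_prime (he v hv) hv1, hcX]
  apply hxS
  have h1 : x⁻¹ ∈ S := by
    refine hm.mem_of_normalizes hT hX0 (fun h => hT.not_le hS (h.trans hXS)) hXn (inv_mem hx) fun y hy => ?_
    rw [← hXv] at hy
    obtain ⟨i, rfl⟩ := hy
    have := conj_zpow (a := x⁻¹) (b := v) (i := i)
    rw [← this, inv_inv]
    exact zpow_mem hg i
  exact inv_mem_iff.1 h1

/-- the three-cycle used in degree nine -/
def cyc9 : Perm (Fin 2 → ZMod 3) := swap ![0, 0] ![1, 0] * swap ![0, 0] ![0, 1]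

theorem cyc9_spec : ∀ w : Fin 2 → ZMod 3, w ≠ 0 → ∃ u a : Fin 2 → ZMod 3,
    (cyc9⁻¹ * Equiv.addLeft w * cyc9) (u + a) + (cyc9⁻¹ * Equiv.addLeft w * cyc9) 0 ≠
      (cyc9⁻¹ * Equiv.addLeft w * cyc9) u + (cyc9⁻¹ * Equiv.addLeft w * cyc9) a := by
  decide +kernel

/-- degree nine -/
theorem aff_nine (hXn : ∀ s ∈ S, ∀ x ∈ X, s * x * s⁻¹ ∈ X)
    (e : (Fin 2 → ZMod 3) ≃ Ω) (hX : ∀ x : Perm Ω, x ∈ X ↔ ∃ w, x = e.permCongrHom (Equiv.addLeft w)) :
    ∃ x ∈ alternatingGroup Ω, ∀ v ∈ X, x⁻¹ * v * x ∈ S → v = 1 := by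
  refine ⟨e.permCongrHom cyc9, ?_, fun v hv hvx => ?_⟩
  · rw [mem_alternatingGroup]
    change sign (e.permCongr cyc9) = 1
    rw [sign_permCongr]
    exact mem_alternatingGroup.1
      (mul_mem_alternatingGroup_of_isSwap ⟨_, _, by decide, rfl⟩ ⟨_, _, by decide, rfl⟩)
  obtain ⟨w, rfl⟩ := (hX v).1 hv
  by_cases hw : w = 0
  · rw [hw]
    exact (map_eq_one_iff _ e.permCongrHom.injective).2 (Equiv.ext fun a => zero_add a)
  exfalso
  obtain ⟨u, a, hua⟩ := cyc9_spec w hw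
  rw [← map_inv, ← map_mul, ← map_mul] at hvx
  generalize cyc9⁻¹ * Equiv.addLeft w * cyc9 = g at hua hvx
  obtain ⟨u', hu'⟩ := (hX _).1 (hXn _ hvx _ ((hX _).2 ⟨u, rfl⟩))
  rw [← map_inv, ← map_mul, ← map_mul] at hu'
  have h1 := e.permCongrHom.injective hu'
  have h2 : ∀ b, g (u + b) = u' + g b := by
    intro b
    have := DFunLike.congr_fun h1 (g b)
    simpa using this
  apply hua
  have h3 := h2 0
  rw [add_zero] at h3
  rw [h2 a, h3]
  abel

/-- **The affine case.** -/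
theorem aff_main (h5 : 5 ≤ Fintype.card Ω) (hT : AS (alternatingGroup Ω)) (hS : Group.IsSolvable S)
    (hm : MaxInv (alternatingGroup Ω) S) (hXS : X ≤ S) (hX0 : X ≠ ⊥) (hXn : ∀ s ∈ S, ∀ x ∈ X, s * x * s⁻¹ ∈ X)
    (hc : ∀ x ∈ X, ∀ y ∈ X, x * y = y * x) {r : ℕ} (hr : r.Prime) (he : ∀ x ∈ X, x ^ r = 1)
    (ht : ∀ a b : Ω, ∃ x ∈ X, x a = b) : ∃ x ∈ alternatingGroup Ω, ∀ v ∈ X, x⁻¹ * v * x ∈ S → v = 1 := by
  have : Fact r.Prime := ⟨hr⟩
  have : Nonempty Ω := Fintype.card_pos_iff.1 (by omega)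
  obtain ⟨k, e, hcX, hX⟩ := exists_model hc he ht
  have hcΩ : Fintype.card Ω = r ^ k := by
    rw [← Nat.card_eq_fintype_card, ← Nat.card_congr e, Nat.card_fun, Nat.card_zmod, Nat.card_fin]
  rcases Nat.lt_or_ge k 3 with hk | hk
  · interval_cases k
    · rw [pow_zero] at hcΩ
      omega
    · rw [pow_one] at hcΩ hcX
      exact aff_prime hT hS hm hXS hX0 hXn he hcX hcΩ
    · by_cases h3 : r = 3
      · subst h3
        exact aff_nine hXn e hX
      · refine absurd (PLocal.SL2Perfect.commutator_eq_top ?_ h3) (not_perfect_sl hT hS hm hXS hX0 hXn e hX le_rfl)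
        rintro rfl
        omega
  · have h1 : _root_.commutator (Matrix.SpecialLinearGroup (Fin k) (ZMod r)) = ⊤ := S0248.result (F := ZMod r) k hk
    exact not_perfect_sl hT hS hm hXS hX0 hXn e hX (by omega) h1 |>.elim

end aff

end Cfsg.Agent.SB.Alt
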