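import Cfsg.Agent.SB.Alt.Part

/-!
# S5765, alternating row: certificates for the stabilisers of partitions (helper96)
-/

set_option autoImplicit false

namespace Cfsg.Agent.SB.Alt

/-- the partitions of shape [1, 4, 0, 0] -/
def G14 : Fin 7 → Fin 4 → ℕ :=
  ![![337, 337, 85, 277], ![277, 325, 85, 337], ![325, 85, 337, 337], ![325, 277, 337, 340], ![277, 325, 85, 325], ![85, 325, 340, 337], ![277, 337, 337, 85]]

theorem cert14 : Cert 5 ![1, 4, 0, 0] :=
  cert_of _ false (lab 5 340) (fun c k => lab 5 (G14 c k)) 3 4 (by decide) (by decide +kernel)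
    (by decide +kernel) (by decide +kernel) (by decide +kernel)

/-- the partitions of shape [2, 3, 0, 0] -/
def G23 : Fin 7 → Fin 4 → ℕ :=
  ![![69, 84, 336, 324], ![84, 84, 261, 21], ![273, 276, 261, 336], ![69, 81, 276, 324], ![261, 276, 81, 69], ![81, 324, 321, 84], ![81, 336, 336, 69]]

theorem cert23 : Cert 5 ![2, 3, 0, 0] :=
  cert_of _ false (lab 5 336) (fun c k => lab 5 (G23 c k)) 3 4 (by decide) (by decide +kernel)
    (by decide +kernel) (by decide +kernel) (by decide +kernel)

/-- the partitions of shape [3, 4, 0, 0] -/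
def G34 : Fin 7 → Fin 4 → ℕ :=
  ![![85, 4417, 5137, 5137], ![4357, 5137, 1105, 1045], ![1300, 1045, 1045, 1093], ![1093, 1045, 337, 337], ![5125, 5140, 4177, 1345], ![4177, 5140, 340, 4432], ![1297, 1105, 5200, 1360]]

theorem cert34 : Cert 7 ![3, 4, 0, 0] :=
  cert_of _ false (lab 7 5440) (fun c k => lab 7 (G34 c k)) 5 6 (by decide) (by decide +kernel)
    (by decide +kernel) (by decide +kernel) (by decide +kernel)

/-- the partitions of shape [4, 4, 0, 0] -/
def G44 : Fin 7 → Fin 4 → ℕ :=
  ![![20800, 4372, 4180, 16657], ![16660, 17428, 17665, 4165], ![4117, 17428, 20500, 20497], ![5188, 16705, 20497, 5125], ![4369, 1300, 1105, 20737], ![4420, 17428, 16720, 20485], ![1348, 277, 5200, 17488]]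

theorem cert44 : Cert 8 ![4, 4, 0, 0] :=
  cert_of _ false (lab 8 21760) (fun c k => lab 8 (G44 c k)) 6 7 (by decide) (by decide +kernel)
    (by decide +kernel) (by decide +kernel) (by decide +kernel)

/-- the partitions of shape [2, 2, 2, 2] -/
def G2222 : Fin 7 → Fin 4 → ℕ :=
  ![![11628, 59655, 28839, 25422], ![60165, 30258, 5838, 59172], ![11373, 52641, 11079, 18750], ![47940, 18678, 42960, 14034], ![56472, 33630, 30264, 14622], ![38667, 58509, 47127, 56160], ![7608, 60816, 15954, 13161]]

theorem cert2222 : Cert 8 ![2, 2, 2, 2] :=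
  cert_of _ true (lab 8 64080) (fun c k => lab 8 (G2222 c k)) 6 7 (by decide) (by decide +kernel)
    (by decide +kernel) (by decide +kernel) (by decide +kernel)

/-- the partitions of shape [3, 3, 3, 0] -/
def G333 : Fin 7 → Fin 4 → ℕ :=
  ![![39201, 147846, 72324, 135753], ![2454, 136329, 24741, 71178], ![39201, 168258, 75801, 17001], ![18966, 10341, 104457, 168993], ![173316, 84552, 75924, 34905], ![132261, 149529, 67749, 137478], ![67938, 102504, 107013, 68178]]

theorem cert333 : Cert 9 ![3, 3, 3, 0] :=
  cert_of _ false (lab 9 173376) (fun c k => lab 9 (G333 c k)) 7 8 (by decide) (by decide +kernel)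
    (by decide +kernel) (by decide +kernel) (by decide +kernel)

/-- the partitions of shape [3, 3, 3, 3] -/
def G3333 : Fin 7 → Fin 4 → ℕ :=
  ![![13263708, 15565404, 9303648, 10794195], ![10471809, 4966734, 3728487, 2909031], ![16122525, 2203116, 12712290, 12375201], ![7247088, 10929939, 15927894, 13944990], ![15327516, 12983454, 6523197, 11059701], ![13226571, 3384711, 5226921, 13453851], ![1555842, 12367176, 12950496, 1708797]]

theorem cert3333 : Cert 12 ![3, 3, 3, 3] :=
  cert_of _ false (lab 12 16688448) (fun c k => lab 12 (G3333 c k)) 10 11 (by decide) (by decide +kernel)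
    (by decide +kernel) (by decide +kernel) (by decide +kernel)

/-- the partitions of shape [4, 4, 4, 0] -/
def G444 : Fin 7 → Fin 4 → ℕ :=
  ![![4597797, 2640453, 10098048, 2724102], ![10618212, 6439314, 661590, 1321569], ![10573860, 1155492, 4883748, 2122854], ![5392422, 10585488, 2724132, 9511014], ![6899721, 338310, 1222212, 9834762], ![10634820, 4852038, 8685081, 2382090], ![8999568, 2523480, 6391332, 2467329]]

theorem cert444 : Cert 12 ![4, 4, 4, 0] :=
  cert_of _ false (lab 12 11162880) (fun c k => lab 12 (G444 c k)) 10 11 (by decide) (by decide +kernel)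
    (by decide +kernel) (by decide +kernel) (by decide +kernel)

/-- the partitions of shape [4, 4, 4, 4] -/
def G4444 : Fin 7 → Fin 4 → ℕ :=
  ![![2449361202, 3172197960, 4074342513, 999690351], ![397679403, 3624802038, 3857750913, 4192563840], ![2512355778, 253059771, 78632628, 3429290604], ![3635289411, 1236820797, 3320670984, 3658604046], ![3677728866, 1578812145, 2489269896, 1573428366], ![3598732251, 824911734, 689599437, 847601295], ![1838338755, 3796579812, 517416099, 1517532720]]

theorem cert4444 : Cert 16 ![4, 4, 4, 4] :=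
  cert_of _ false (lab 16 4289352960) (fun c k => lab 16 (G4444 c k)) 14 15 (by decide) (by decide +kernel)
    (by decide +kernel) (by decide +kernel) (by decide +kernel)

end Cfsg.Agent.SB.Alt
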