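import Cfsg.Agent.SB.Alt.SixCert

/-!
# S5765, alternating row: `Row A₆` (helper96)
-/

set_option autoImplicit false

namespace Cfsg.Agent.SB.Alt

open Subgroup Equiv Equiv.Perm Cfsg Cfsg.Agent.H786.FC

/-- `(0 1)(2 3)` -/
def g2 : P6 := pm 181441 181441
/-- `(0 1 2)` -/
def g3 : P6 := pm 181777 181826
/-- `(0 1 2)(3 4 5)` -/
def g33 : P6 := pm 120849 145986
/-- `(0 1 2 3 4)` -/
def g5 : P6 := pm 166097 177220

theorem ct2 : cycleType g2 = Multiset.replicate 2 2 := by decide +kernel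
theorem ct3 : cycleType g3 = Multiset.replicate 1 3 := by decide +kernel
theorem ct33 : cycleType g33 = Multiset.replicate 2 3 := by decide +kernel
theorem ct5 : cycleType g5 = Multiset.replicate 1 5 := by decide +kernel

theorem ti3 : ∀ y ∈ L3, ∀ z : P6, z * y = y * z → z ^ 3 = 1 → z = 1 ∨ z ∈ L3 := by decide +kernel
theorem ti5 : ∀ y ∈ L5, ∀ z : P6, z * y = y * z → z ^ 5 = 1 → z = 1 ∨ z ∈ L5 := by decide +kernel
theorem ab3 : ∀ y ∈ L3, y ≠ 1 ∧ y ^ 3 = 1 ∧ ∀ z ∈ L3, y * z = z * y := by decide +kernel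
theorem ab5 : ∀ y ∈ L5, y ≠ 1 ∧ y ^ 5 = 1 ∧ ∀ z ∈ L5, y * z = z * y := by decide +kernel
theorem cen2 : ∀ z : P6, z * g2 = g2 * z → z ^ 2 = 1 → sign z = 1 → z = 1 ∨ z ∈ LA ∨ z ∈ LB := by decide +kernel
theorem fourA1 : ∀ z ∈ LA, z ≠ g2 → ∀ h ∈ LA, h ≠ 1 ∧ (h = g2 ∨ h = z ∨ h = g2 * z) := by decide +kernel
theorem fourA2 : ∀ z ∈ LA, z ≠ g2 → ∀ w ∈ LB, w * z = z * w → w ∈ LA := by decide +kernel
theorem fourB1 : ∀ z ∈ LB, z ≠ g2 → ∀ h ∈ LB, h ≠ 1 ∧ (h = g2 ∨ h = z ∨ h = g2 * z) := by decide +kernel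
theorem fourB2 : ∀ z ∈ LB, z ≠ g2 → ∀ w ∈ LA, w * z = z * w → w ∈ LB := by decide +kernel

/-- the classes of even elements of prime order -/
theorem std6 {σ : P6} (hs : sign σ = 1) (h1 : σ ≠ 1) {r : ℕ} (hr : r.Prime) (hσ : σ ^ r = 1) :
    ∃ τ : P6, (r = 2 ∧ τ * σ * τ⁻¹ = g2) ∨ (r = 3 ∧ τ * σ * τ⁻¹ ∈ L3) ∨ (r = 5 ∧ τ * σ * τ⁻¹ ∈ L5) := by
  have : Fact r.Prime := ⟨hr⟩
  have hc := cycleType_of_pow_prime_eq_one hσ
  have hpos : 0 < Multiset.card σ.cycleType := card_cycleType_pos.2 h1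
  have hsum := sum_cycleType_le σ
  have hsg := sign_of_cycleType σ
  generalize Multiset.card σ.cycleType = k at hc hpos hsg
  rw [hc, Multiset.sum_replicate, smul_eq_mul, Fintype.card_fin] at hsum
  rw [hc, Multiset.sum_replicate, smul_eq_mul, hs] at hsg
  have h2 := hr.two_le
  have hr6 : r ≤ 6 := le_trans (Nat.le_mul_of_pos_left r hpos) hsum
  have hk : k ≤ 3 := by nlinarith
  have conj : ∀ {g : P6}, cycleType g = Multiset.replicate k r → ∃ τ : P6, τ * σ * τ⁻¹ = g := fun h =>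
    isConj_iff.1 (isConj_iff_cycleType_eq.2 (hc.trans h.symm))
  interval_cases r
  · interval_cases k
    · exact absurd hsg (by decide)
    · obtain ⟨τ, h⟩ := conj ct2
      exact ⟨τ, Or.inl ⟨rfl, h⟩⟩
    · exact absurd hsg (by decide)
  · interval_cases k
    · obtain ⟨τ, h⟩ := conj ct3
      exact ⟨τ, Or.inr (Or.inl ⟨rfl, h ▸ (by decide +kernel : g3 ∈ L3)⟩)⟩
    · obtain ⟨τ, h⟩ := conj ct33
      exact ⟨τ, Or.inr (Or.inl ⟨rfl, h ▸ (by decide +kernel : g33 ∈ L3)⟩)⟩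
    · omega
  · exact absurd hr (by decide)
  · interval_cases k
    · obtain ⟨τ, h⟩ := conj ct5
      exact ⟨τ, Or.inr (Or.inr ⟨rfl, h ▸ (by decide +kernel : g5 ∈ L5)⟩)⟩
    · omega
    · omega
  · exact absurd hr (by decide)

section core

variable {S : Subgroup (MulAut K6)} {X : Subgroup K6}

theorem aut_ne_one (s : MulAut K6) {g : K6} (hg : (g : P6) ≠ 1) : ((s g : K6) : P6) ≠ 1 := fun h =>
  hg (congrArg Subtype.val ((map_eq_one_iff s s.injective).1 (Subtype.ext h)))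

theorem stab_ti {L : List P6} {r : ℕ} (hF : ∀ y ∈ L, ∀ z : P6, z * y = y * z → z ^ r = 1 → z = 1 ∨ z ∈ L)
    (hL : ∀ y ∈ L, y ≠ 1 ∧ y ^ r = 1 ∧ ∀ z ∈ L, y * z = z * y) (hX : ∀ s ∈ S, ∀ g ∈ X, s g ∈ X)
    (hc : ∀ g ∈ X, ∀ h ∈ X, g * h = h * g) {g : K6} (hg : g ∈ X) (hgL : (g : P6) ∈ L) : Stab L S := by
  intro s hs h hh
  have hp : ∀ u : K6, (u : P6) ∈ L → ((s u : K6) : P6) ^ r = 1 := by
    intro u hu
    have h1 : u ^ r = 1 := Subtype.ext (hL _ hu).2.1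
    have h2 : (s u) ^ r = 1 := by rw [← map_pow, h1, map_one]
    exact congrArg Subtype.val h2
  have h1 : ((s g : K6) : P6) ∈ L :=
    (hF _ hgL _ (congrArg Subtype.val (hc _ (hX s hs g hg) g hg)) (hp g hgL)).resolve_left
      (aut_ne_one s (hL _ hgL).1)
  have h2 : s h * s g = s g * s h := by
    rw [← map_mul, ← map_mul]
    exact congrArg s (Subtype.ext ((hL _ hh).2.2 _ hgL))
  exact (hF _ h1 _ (congrArg Subtype.val h2) (hp h hh)).resolve_left (aut_ne_one s (hL _ hh).1)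

theorem mem_four (hc : ∀ g ∈ X, ∀ h ∈ X, g * h = h * g) (he : ∀ g ∈ X, g ^ 2 = 1) {g : K6} (hg : g ∈ X)
    (hg2 : (g : P6) = g2) {w : K6} (hw : w ∈ X) (hw1 : (w : P6) ≠ 1) : (w : P6) ∈ LA ∨ (w : P6) ∈ LB :=
  (cen2 w (hg2 ▸ congrArg Subtype.val (hc w hw g hg)) (congrArg Subtype.val (he w hw))
    (mem_alternatingGroup.1 w.2)).resolve_left hw1

theorem stab_four {L L' : List P6} (hX : ∀ s ∈ S, ∀ g ∈ X, s g ∈ X) (hc : ∀ g ∈ X, ∀ h ∈ X, g * h = h * g)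
    {g z : K6} (hg : g ∈ X) (hg2 : (g : P6) = g2) (hz : z ∈ X)
    (hmem : ∀ w ∈ X, (w : P6) ≠ 1 → (w : P6) ∈ L ∨ (w : P6) ∈ L')
    (hL : (∀ h ∈ L, h ≠ 1 ∧ (h = g2 ∨ h = z ∨ h = g2 * z)) ∧ ∀ w ∈ L', w * z = z * w → w ∈ L) : Stab L S := by
  intro s hs h hh
  have hhX : h ∈ X := by
    rcases (hL.1 _ hh).2 with h1 | h1 | h1
    · rwa [(Subtype.ext (h1.trans hg2.symm) : h = g)]
    · rwa [(Subtype.ext h1 : h = z)]
    · rw [← hg2] at h1
      rw [(Subtype.ext h1 : h = g * z)]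
      exact mul_mem hg hz
  rcases hmem _ (hX s hs h hhX) (aut_ne_one s (hL.1 _ hh).1) with h1 | h1
  · exact h1
  · exact hL.2 _ h1 (congrArg Subtype.val (hc _ (hX s hs h hhX) z hz))

theorem seven_core (hX : ∀ s ∈ S, ∀ g ∈ X, s g ∈ X) (hc : ∀ g ∈ X, ∀ h ∈ X, g * h = h * g) {r : ℕ}
    (he : ∀ g ∈ X, g ^ r = 1) {g : K6} (hg : g ∈ X)
    (h : (r = 2 ∧ (g : P6) = g2) ∨ (r = 3 ∧ (g : P6) ∈ L3) ∨ (r = 5 ∧ (g : P6) ∈ L5)) : Seven (InnG K6) S := by
  rcases h with ⟨rfl, h⟩ | ⟨-, h⟩ | ⟨-, h⟩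
  · by_cases hfix : ∀ s ∈ S, s g = g
    · refine seven2 fun s hs u hu => ?_
      have h1 : u = g := Subtype.ext ((List.mem_singleton.1 hu).trans h.symm)
      rw [h1, hfix s hs]
      exact List.mem_singleton.2 h
    · push Not at hfix
      obtain ⟨s, hs, hsg⟩ := hfix
      have h1 : ((s g : K6) : P6) ≠ g2 := fun h2 => hsg (Subtype.ext (h2.trans h.symm))
      have h2 : (g : P6) ≠ 1 := h ▸ (by decide +kernel : g2 ≠ 1)
      rcases mem_four hc he hg h (hX s hs g hg) (aut_ne_one s h2) with h3 | h3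
      · exact sevenA (stab_four hX hc hg h (hX s hs g hg) (fun w hw hw1 => mem_four hc he hg h hw hw1) 
          ⟨fourA1 _ h3 h1, fourA2 _ h3 h1⟩)
      · exact sevenB (stab_four hX hc hg h (hX s hs g hg) (fun w hw hw1 => (mem_four hc he hg h hw hw1).symm)
          ⟨fourB1 _ h3 h1, fourB2 _ h3 h1⟩)
  · exact seven3 (stab_ti ti3 ab3 hX hc hg h)
  · exact seven5 (stab_ti ti5 ab5 hX hc hg h)

end core

theorem nonab_alt {n : ℕ} (hn : 5 ≤ n) : ¬ IsMulCommutative (alternatingGroup (Fin n)) := by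
  intro h
  have h1 := commutator_alternatingGroup_eq_top (α := Fin n) (by simpa using hn)
  have h2 : Nontrivial (alternatingGroup (Fin n)) := alternatingGroup.nontrivial_of_three_le_card (by simp; omega)
  have h3 : Group.IsSolvable (alternatingGroup (Fin n)) := Group.isSolvable_of_comm h.is_comm.comm
  exact (Group.IsSolvable.commutator_lt_top_of_nontrivial _).ne h1

/-- **`Row A₆`.** -/
theorem row_six : Row K6 := by
  intro S hS hm
  have hsimple : IsSimpleGroup K6 := alternatingGroup.isSimpleGroup (by simp)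
  have hna : ¬ IsMulCommutative K6 := nonab_alt (by norm_num)
  have : Finite (MulAut K6) := Finite.of_injective (fun α : MulAut K6 => (α : K6 → K6)) DFunLike.coe_injective
  obtain ⟨X, hXle, hX0, hXn, -, hc, ⟨r, hr, he⟩, -⟩ := hm.exists_min (as_inn hna) hS
  obtain ⟨⟨x, hx⟩, hx1⟩ := (ne_bot_iff_exists_ne_one).1 hX0
  obtain ⟨g, rfl⟩ := (mem_inf.1 (hXle hx)).2
  have hinj := conj_injective hna
  have hg1 : (g : P6) ≠ 1 := by
    intro h
    have h1 : g = 1 := Subtype.ext h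
    exact hx1 (Subtype.ext ((congrArg MulAut.conj h1).trans (map_one _)))
  have he' : ∀ u : K6, MulAut.conj u ∈ X → u ^ r = 1 := fun u hu => hinj (by rw [map_pow, he _ hu, map_one])
  obtain ⟨τ, hτ⟩ := std6 (mem_alternatingGroup.1 g.2) hg1 hr (congrArg Subtype.val (he' g hx))
  let α : MulAut K6 := MulAut.conjNormal τ
  refine Good.of_conj (innG_normal K6) α (Or.inr ?_)
  refine seven_core (X := (X.comap MulAut.conj).map α.toMonoidHom) (r := r) (g := α g) ?_ ?_ ?_ ⟨g, hx, rfl⟩ hτ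
  · rintro _ ⟨s, hs, rfl⟩ _ ⟨u, hu, rfl⟩
    refine ⟨s u, ?_, by simp⟩
    have h1 : MulAut.conj (s u) = s * MulAut.conj u * s⁻¹ := by
      ext1 v
      simp
    change MulAut.conj (s u) ∈ X
    rw [h1]
    exact hXn s hs _ hu
  · rintro _ ⟨u, hu, rfl⟩ _ ⟨v, hv, rfl⟩
    rw [← map_mul, ← map_mul]
    congr 1
    exact hinj (by rw [map_mul, map_mul]; exact hc _ hu _ hv)
  · rintro _ ⟨u, hu, rfl⟩
    rw [← map_pow, he' u hu, map_one]

end Cfsg.Agent.SB.Alt
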