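import Cfsg.Agent.SB.Alt.Cert
import Cfsg.Agent.SB.Alt.Aff
import Cfsg.Agent.SB.Alt.Six
import Cfsg.Agent.S2119

/-!
# S5765: the alternating row (helper96)

`rowAlt`, `boxAlt`.
-/

set_option autoImplicit false

namespace Cfsg.Agent.SB.Alt

open Subgroup Equiv Equiv.Perm Cfsg Cfsg.Agent.H786.FC

theorem Cert.relabel {n : ℕ} {m : Fin 4 → ℕ} (h : Cert n m) (σ : Perm (Fin 4)) : Cert n fun t => m (σ t) := by
  intro f hf
  rw [← pstab_comp f σ.injective]
  refine h _ fun t => ?_
  have h1 := hf (σ⁻¹ t)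
  simp only [Perm.coe_inv, apply_symm_apply] at h1
  rw [← h1]
  unfold fib
  congr 1
  ext i
  simp [Equiv.eq_symm_apply]

theorem fib_eq {n : ℕ} (f : Fin n → Fin 4) (t : Fin 4) : fib f t = Nat.card {i // f i = t} := by
  rw [Nat.card_eq_fintype_card, Fintype.card_subtype]
  rfl

theorem sum_fib {n : ℕ} (f : Fin n → Fin 4) : fib f 0 + fib f 1 + fib f 2 + fib f 3 = n := by
  have h := Finset.card_eq_sum_card_fiberwise (f := f) (s := Finset.univ) (t := Finset.univ) (fun _ _ => Finset.mem_univ _)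
  rw [Finset.card_univ, Fintype.card_fin, Fin.sum_univ_four] at h
  exact h.symm

theorem cert_two {n a b : ℕ} (hn : 5 ≤ n) (h6 : n ≠ 6) (ha : a ≤ 4) (hb : b ≤ 4) (hab : a + b = n) :
    Cert n ![a, b, 0, 0] := by
  have sw : ∀ {a b : ℕ}, Cert n ![a, b, 0, 0] → Cert n ![b, a, 0, 0] := by
    intro a b h
    have h1 := h.relabel (swap 0 1)
    have e : (fun t => (![a, b, 0, 0] : Fin 4 → ℕ) (swap 0 1 t)) = ![b, a, 0, 0] := by
      funext t
      fin_cases t <;> rfl
    rwa [e] at h1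
  subst hab
  interval_cases a <;> interval_cases b <;> first
    | omega
    | exact cert14
    | exact cert23
    | exact cert34
    | exact cert44
    | exact sw cert14
    | exact sw cert23
    | exact sw cert34

theorem cert_eq {n a b : ℕ} (hn : 5 ≤ n) (h6 : n ≠ 6) (ha : a ≤ 4) (hb : b ≤ 4) (hab : b * a = n) :
    Cert n fun t => if t.val < b then a else 0 := by
  subst hab
  have e : ∀ {n : ℕ} {m m' : Fin 4 → ℕ}, Cert n m → (∀ t, m t = m' t) → Cert n m' := by
    intro n m m' h h'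
    rwa [← funext h']
  interval_cases a <;> interval_cases b <;> first
    | omega
    | exact e cert44 (by decide)
    | exact e cert2222 (by decide)
    | exact e cert333 (by decide)
    | exact e cert3333 (by decide)
    | exact e cert444 (by decide)
    | exact e cert4444 (by decide)

section cases

variable {n : ℕ} {S X : Subgroup (Perm (Fin n))}

/-- the intransitive case -/
theorem seven_intrans (hn : 5 ≤ n) (h6 : n ≠ 6) (hS : Group.IsSolvable S) (hm : MaxInv (alternatingGroup (Fin n)) S)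
    {a b : Fin n} (hab : ¬ ∃ s ∈ S, s a = b) : Seven (alternatingGroup (Fin n)) S := by
  classical
  let f : Fin n → Fin 4 := fun i => if ∃ s ∈ S, s a = i then 0 else 1
  have hf01 : ∀ i, f i = 0 ∨ f i = 1 := by
    intro i
    by_cases h : ∃ s ∈ S, s a = i
    · exact Or.inl (if_pos h)
    · exact Or.inr (if_neg h)
  have hfa : f a = 0 := if_pos ⟨1, one_mem _, rfl⟩
  have hfb : f b = 1 := if_neg hab
  have hSf : S ≤ pstab f := by
    intro s hs i j
    have key : ∀ i, f (s i) = f i := by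
      intro i
      refine if_congr ⟨?_, ?_⟩ rfl rfl
      · rintro ⟨u, hu, h⟩
        exact ⟨s⁻¹ * u, mul_mem (inv_mem hs) hu, by rw [Perm.mul_apply, h]; simp⟩
      · rintro ⟨u, hu, h⟩
        exact ⟨s * u, mul_mem hs hu, by rw [Perm.mul_apply, h]⟩
    rw [key, key]
  obtain ⟨i, j, hij, hf⟩ := Fintype.exists_ne_map_eq_of_card_lt f (by simp; omega)
  obtain ⟨c, hc⟩ : ∃ c, f c ≠ f i := by
    rcases hf01 i with h | h
    · exact ⟨b, by rw [hfb, h]; decide⟩
    · exact ⟨a, by rw [hfa, h]; decide⟩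
  have hsol := solvable_of_le hS hm hSf (not_alt_le (by simp; omega) hij hf hc)
  have hz : ∀ t : Fin 4, t ≠ 0 → t ≠ 1 → fib f t = 0 := by
    intro t h0 h1
    unfold fib
    rw [Finset.card_eq_zero, Finset.filter_eq_empty_iff]
    intro u _ hu
    rcases hf01 u with h | h
    · exact h0 (hu ▸ h)
    · exact h1 (hu ▸ h)
  have hsum := sum_fib f
  rw [hz 2 (by decide) (by decide), hz 3 (by decide) (by decide)] at hsum
  have h4 : ∀ t, fib f t ≤ 4 := fun t => by
    rw [fib_eq]
    exact fibre_le_four hsol t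
  refine (cert_two hn h6 (h4 0) (h4 1) hsum f fun t => ?_).mono hSf
  fin_cases t
  exacts [rfl, rfl, hz 2 (by decide) (by decide), hz 3 (by decide) (by decide)]

/-- the imprimitive case -/
theorem seven_imprim (hn : 5 ≤ n) (h6 : n ≠ 6) (hS : Group.IsSolvable S) (hm : MaxInv (alternatingGroup (Fin n)) S)
    (ht : ∀ a b : Fin n, ∃ s ∈ S, s a = b) (hX0 : X ≠ ⊥) (hXn : ∀ s ∈ S, ∀ x ∈ X, s * x * s⁻¹ ∈ X)
    {u v : Fin n} (huv : ¬ ∃ x ∈ X, x u = v) : Seven (alternatingGroup (Fin n)) S := by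
  classical
  let R : Setoid (Fin n) :=
    ⟨fun i j => ∃ x ∈ X, x i = j, fun i => ⟨1, one_mem _, rfl⟩,
      fun ⟨x, hx, h⟩ => ⟨x⁻¹, inv_mem hx, by rw [← h]; simp⟩,
      fun ⟨x, hx, h⟩ ⟨y, hy, h'⟩ => ⟨y * x, mul_mem hy hx, by rw [Perm.mul_apply, h, h']⟩⟩
  let f : Fin n → Quotient R := Quotient.mk R
  have hf : ∀ i j, f i = f j ↔ ∃ x ∈ X, x i = j := fun i j => Quotient.eq
  have hSf : S ≤ pstab f := by
    intro s hs i j
    rw [hf, hf]
    constructor
    · rintro ⟨x, hx, h⟩
      refine ⟨s⁻¹ * x * s⁻¹⁻¹, hXn _ (inv_mem hs) x hx, ?_⟩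
      rw [inv_inv, Perm.mul_apply, Perm.mul_apply, h]
      simp
    · rintro ⟨x, hx, h⟩
      refine ⟨s * x * s⁻¹, hXn _ hs x hx, ?_⟩
      rw [← h]
      simp
  obtain ⟨⟨x, hx⟩, hx1⟩ := ne_bot_iff_exists_ne_one.1 hX0
  obtain ⟨a, ha⟩ : ∃ a, x a ≠ a := by
    by_contra hcon
    push Not at hcon
    exact hx1 (Subtype.ext (Equiv.ext hcon))
  have hfa : f a = f (x a) := (hf _ _).2 ⟨x, hx, rfl⟩
  obtain ⟨c, hc⟩ : ∃ c, f c ≠ f a := by
    by_contra hcon
    push Not at hcon
    exact huv ((hf _ _).1 ((hcon u).trans (hcon v).symm))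
  have hsol := solvable_of_le hS hm hSf (not_alt_le (by simp; omega) ha.symm hfa hc)
  have hfib : ∀ t, Nat.card {i // f i = t} = Nat.card {i // f i = f a} := by
    intro t
    obtain ⟨w, rfl⟩ := Quotient.exists_rep t
    obtain ⟨s, hs, hsw⟩ := ht w a
    refine Nat.card_congr (s.subtypeEquiv fun i => ?_)
    rw [← hsw]
    exact (hSf hs i w).symm
  have hprod : ∀ t : Quotient R, Nat.card {p : Quotient R × {i // f i = f a} // p.1 = t} = Nat.card {i // f i = f a} :=
    fun t => Nat.card_congr ⟨fun p => p.1.2, fun y => ⟨(t, y), rfl⟩, fun ⟨⟨_, _⟩, rfl⟩ => rfl, fun _ => rfl⟩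
  have e0 : ∀ t, {i // f i = t} ≃ {p : Quotient R × {i // f i = f a} // p.1 = t} := fun t =>
    (Finite.card_eq.1 ((hfib t).trans (hprod t).symm)).some
  have : Nonempty {i // f i = f a} := ⟨⟨a, rfl⟩⟩
  have hb := classes_le_four hsol (Equiv.ofFiberEquiv e0) (Equiv.ofFiberEquiv_map e0)
  have hcard : Nat.card (Quotient R) * Nat.card {i // f i = f a} = n := by
    rw [← Nat.card_prod, ← Nat.card_congr (Equiv.ofFiberEquiv e0), Nat.card_fin]
  let l : Quotient R → Fin 4 := fun t => Fin.castLE hb (Finite.equivFin (Quotient R) t)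
  have hl : Function.Injective l := (Fin.castLE_injective hb).comp (Finite.equivFin (Quotient R)).injective
  refine (cert_eq hn h6 (fibre_le_four hsol (f a)) hb hcard (l ∘ f) fun t => ?_).mono (by rwa [pstab_comp f hl])
  rw [fib_eq]
  beta_reduce
  split_ifs with h
  · have h1 : t = l ((Finite.equivFin (Quotient R)).symm ⟨t.val, h⟩) := by
      apply Fin.ext
      simp [l]
    rw [← hfib ((Finite.equivFin (Quotient R)).symm ⟨t.val, h⟩)]
    refine Nat.card_congr (Equiv.subtypeEquivRight fun i => ?_)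
    rw [← hl.eq_iff, ← h1]
    rfl
  · have : IsEmpty {i // (l ∘ f) i = t} := ⟨fun i => h (by
      rw [← i.2]
      exact (Finite.equivFin (Quotient R) (f i)).2)⟩
    exact Nat.card_of_isEmpty

end cases

theorem as_alt {n : ℕ} (hn : 5 ≤ n) (h6 : n ≠ 6) : AS (alternatingGroup (Fin n)) where
  normal := inferInstance
  simple := alternatingGroup.isSimpleGroup (by simpa using hn)
  nonab := nonab_alt hn
  cent := by
    rw [eq_bot_iff]
    intro g hg
    apply (S2119.result n (by omega) h6).1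
    rw [map_one]
    ext1 t
    apply Subtype.ext
    rw [MulAut.conjNormal_apply, ← mem_centralizer_iff.1 hg t t.2]
    simp

theorem rowIn_alt {n : ℕ} (hn : 5 ≤ n) (h6 : n ≠ 6) : RowIn (alternatingGroup (Fin n)) := by
  intro S hS hm
  have hT := as_alt hn h6
  obtain ⟨X, hXle, hX0, hXn, -, hc, ⟨r, hr, he⟩, -, hF⟩ := hm.exists_min hT hS
  by_cases ht : ∀ a b : Fin n, ∃ s ∈ S, s a = b
  · by_cases htX : ∀ a b : Fin n, ∃ x ∈ X, x a = b
    · obtain ⟨x, hx, h⟩ := aff_main (by simpa using hn) hT hS hm (hXle.trans inf_le_left) hX0 hXn hc hr he htX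
      exact Or.inl (fitReg_of_le (N := X) (fun v hv => mem_of_comm hc htX (hF v hv)) hx fun v hv _ => h v hv)
    · push Not at htX
      obtain ⟨u, v, huv⟩ := htX
      exact Or.inr (seven_imprim hn h6 hS hm ht hX0 hXn (u := u) (v := v) fun ⟨x, hx, h⟩ => huv x hx h)
  · push Not at ht
    obtain ⟨a, b, hab⟩ := ht
    exact Or.inr (seven_intrans hn h6 hS hm (a := a) (b := b) fun ⟨s, hs, h⟩ => hab s hs h)

/-- **The alternating groups have `Row`.** -/
theorem rowAlt {n : ℕ} (hn : 5 ≤ n) : Row (alternatingGroup (Fin n)) := by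
  by_cases h6 : n = 6
  · subst h6
    exact row_six
  · refine RowIn.row inferInstance (as_alt hn h6).cent (fun α => ?_) (rowIn_alt hn h6)
    obtain ⟨g, rfl⟩ := (S2119.result n (by omega) h6).2 α
    exact ⟨g, fun t => MulAut.conjNormal_apply g t⟩

/-- a group isomorphic to an alternating group has `Row` -/
theorem row_of_isAlternating {K : Type*} [Group K] (h : IsAlternating K) : Row K := by
  obtain ⟨n, hn, ⟨e⟩⟩ := h
  exact Row.of_equiv e (rowAlt hn)

/-- **The alternating box.** -/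
theorem boxAlt : Box fun K _ => IsAlternating K := fun _ _ _ _ _ h => row_of_isAlternating h

end Cfsg.Agent.SB.Alt
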