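import Cfsg.Agent.SB.Trans

/-!
# S5765, alternating row: stabilisers of partitions (helper96)

`pstab f` is the stabiliser in `Sym Ω` of the partition into the fibres of `f`.  If a solvable `S` with `MaxInv`
stabilises a proper partition then `pstab f` is solvable, so the fibres have size at most four, and there are at most
four of them when they have the same size.  `Cert n m`: the stabiliser of a partition of shape `m` has `Seven`.
-/

set_option autoImplicit false

namespace Cfsg.Agent.SB.Alt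

open Subgroup Equiv Equiv.Perm Cfsg

section pstab

variable {Ω β : Type*}

/-- the stabiliser of the partition into the fibres of `f` -/
def pstab (f : Ω → β) : Subgroup (Perm Ω) where
  carrier := {s | ∀ i j, f (s i) = f (s j) ↔ f i = f j}
  one_mem' := fun _ _ => Iff.rfl
  mul_mem' := fun {_ b} ha hb i j => (ha (b i) (b j)).trans (hb i j)
  inv_mem' := fun {a} ha i j => by
    have := ha (a⁻¹ i) (a⁻¹ j)
    simpa using this.symm

theorem mem_pstab {f : Ω → β} {s : Perm Ω} : s ∈ pstab f ↔ ∀ i j, f (s i) = f (s j) ↔ f i = f j := Iff.rfl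

theorem pstab_comp {γ : Type*} (f : Ω → β) {l : β → γ} (hl : Function.Injective l) : pstab (l ∘ f) = pstab f := by
  ext s
  simp only [mem_pstab, Function.comp, hl.eq_iff]

variable [Fintype Ω] [DecidableEq Ω]

theorem not_alt_le (h4 : 4 ≤ Fintype.card Ω) {f : Ω → β} {a b c : Ω} (hab : a ≠ b) (hf : f a = f b) (hc : f c ≠ f a) :
    ¬ alternatingGroup Ω ≤ pstab f := by
  intro hle
  obtain ⟨d, hd⟩ : ∃ d, d ∉ ({a, b, c} : Finset Ω) := by
    by_contra hcon
    push Not at hcon
    have h1 : (Finset.univ : Finset Ω) ⊆ {a, b, c} := fun x _ => hcon x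
    have h2 := (Finset.card_le_card h1).trans Finset.card_le_three
    rw [Finset.card_univ] at h2
    omega
  simp only [Finset.mem_insert, Finset.mem_singleton, not_or] at hd
  obtain ⟨hda, hdb, hdc⟩ := hd
  have hca : c ≠ a := fun h => hc (h ▸ rfl)
  have h1 : swap c d * swap b d ∈ alternatingGroup Ω :=
    mul_mem_alternatingGroup_of_isSwap ⟨c, d, Ne.symm hdc, rfl⟩ ⟨b, d, Ne.symm hdb, rfl⟩
  have h2 := (hle h1 a b).2 hf
  rw [Perm.mul_apply, Perm.mul_apply, swap_apply_left, swap_apply_right, swap_apply_of_ne_of_ne hab (Ne.symm hda),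
    swap_apply_of_ne_of_ne (Ne.symm hca) (Ne.symm hda)] at h2
  exact hc h2.symm

theorem solvable_of_inf {Y : Subgroup (Perm Ω)} (h : Group.IsSolvable ↥(Y ⊓ alternatingGroup Ω)) :
    Group.IsSolvable Y := by
  refine Group.isSolvable_of_ker_le_range (inclusion (inf_le_left : Y ⊓ alternatingGroup Ω ≤ Y))
    (sign.comp Y.subtype) ?_
  intro y hy
  exact ⟨⟨y, mem_inf.2 ⟨y.2, mem_alternatingGroup.2 hy⟩⟩, rfl⟩

theorem solvable_of_le {S Y : Subgroup (Perm Ω)} (hS : Group.IsSolvable S) (hm : MaxInv (alternatingGroup Ω) S)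
    (hSY : S ≤ Y) (hY : ¬ alternatingGroup Ω ≤ Y) : Group.IsSolvable Y := by
  have h1 := hm.inf_le inferInstance hSY hY
  exact solvable_of_inf (Group.isSolvable_of_isSolvable_injective (f := inclusion h1) (inclusion_injective h1))

omit [Fintype Ω] [DecidableEq Ω] in
theorem card_le_four_of_hom {γ : Type*} [Finite γ] {Y : Subgroup (Perm Ω)} (hY : Group.IsSolvable Y)
    (φ : Perm γ →* Perm Ω) (hφ : Function.Injective φ) (hr : ∀ σ, φ σ ∈ Y) : Nat.card γ ≤ 4 := by
  by_contra hcon
  have h5 : (5 : Cardinal) ≤ Cardinal.mk γ := by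
    rw [← Nat.cast_card]
    exact_mod_cast (by omega : 5 ≤ Nat.card γ)
  refine Equiv.Perm.not_isSolvable γ h5 ?_
  exact Group.isSolvable_of_isSolvable_injective (f := φ.codRestrict Y hr)
    (fun a b h => hφ (congrArg Subtype.val h))

omit [DecidableEq Ω] in
/-- the fibres have size at most four -/
theorem fibre_le_four {f : Ω → β} (hs : Group.IsSolvable (pstab f)) (t : β) : Nat.card {i // f i = t} ≤ 4 := by
  classical
  refine card_le_four_of_hom hs (ofSubtype : Perm {i // f i = t} →* Perm Ω) ofSubtype_injective fun σ => ?_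
  have key : ∀ i, f (ofSubtype σ i) = f i := by
    intro i
    by_cases h : f i = t
    · rw [h]
      exact (ofSubtype_apply_mem_iff_mem σ i).2 h
    · rw [ofSubtype_apply_of_not_mem σ h]
  intro i j
  rw [key, key]

omit [Fintype Ω] [DecidableEq Ω] in
/-- at most four fibres of the same size -/
theorem classes_le_four [Finite β] {γ : Type*} [Nonempty γ] {f : Ω → β} (hs : Group.IsSolvable (pstab f))
    (e : Ω ≃ β × γ) (he : ∀ i, (e i).1 = f i) : Nat.card β ≤ 4 := by
  let ψ : Perm β →* Perm (β × γ) :=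
    { toFun := fun σ => σ.prodCongr (Equiv.refl γ)
      map_one' := rfl
      map_mul' := fun _ _ => rfl }
  refine card_le_four_of_hom hs (e.symm.permCongrHom.toMonoidHom.comp ψ) ?_ fun σ i j => ?_
  · refine e.symm.permCongrHom.injective.comp ?_
    intro σ τ h
    ext x
    obtain ⟨y⟩ := ‹Nonempty γ›
    exact congrArg Prod.fst (DFunLike.congr_fun h (x, y))
  · have key : ∀ i, f ((e.symm.permCongrHom.toMonoidHom.comp ψ) σ i) = σ (f i) := by
      intro i
      rw [← he, ← he]
      change (e (e.symm ((σ.prodCongr (Equiv.refl γ)) (e i)))).1 = _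
      rw [apply_symm_apply]
      rfl
    rw [key, key, σ.injective.eq_iff]

omit [DecidableEq Ω] in
theorem exists_perm_of_fibre [DecidableEq β] {f g : Ω → β}
    (h : ∀ t, (Finset.univ.filter fun i => f i = t).card = (Finset.univ.filter fun i => g i = t).card) :
    ∃ x : Perm Ω, ∀ i, g (x i) = f i := by
  have e : ∀ t, {i // f i = t} ≃ {i // g i = t} := fun t =>
    Fintype.equivOfCardEq (by rw [Fintype.card_subtype, Fintype.card_subtype, h t])
  exact ⟨Equiv.ofFiberEquiv e, Equiv.ofFiberEquiv_map e⟩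

theorem exists_even_of_fibre [DecidableEq β] {f g : Ω → β} {a b : Ω} (hab : a ≠ b) (hf : f a = f b)
    (h : ∀ t, (Finset.univ.filter fun i => f i = t).card = (Finset.univ.filter fun i => g i = t).card) :
    ∃ x ∈ alternatingGroup Ω, ∀ i, g (x i) = f i := by
  obtain ⟨x, hx⟩ := exists_perm_of_fibre h
  rcases Int.units_eq_one_or (sign x) with h1 | h1
  · exact ⟨x, mem_alternatingGroup.2 h1, hx⟩
  · refine ⟨x * swap a b, mem_alternatingGroup.2 (by rw [map_mul, h1, sign_swap hab]; rfl), fun i => ?_⟩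
    rw [Perm.mul_apply, hx]
    rcases eq_or_ne i a with rfl | hia
    · rw [swap_apply_left, hf]
    rcases eq_or_ne i b with rfl | hib
    · rw [swap_apply_right, hf]
    · rw [swap_apply_of_ne_of_ne hia hib]

end pstab

section cert

variable {n : ℕ}

/-- one round of colour refinement -/
def inv1 (cd : Fin n → Fin n → ℕ) (i : Fin n) : ℕ := ∑ j, 17 ^ cd i j

/-- two rounds of colour refinement -/
def inv2 (cd : Fin n → Fin n → ℕ) (i : Fin n) : ℕ := ∑ j, (cd i j + 32 * inv1 cd j) ^ 2

/-- one or two rounds -/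
def invr (r : Bool) (cd : Fin n → Fin n → ℕ) (i : Fin n) : ℕ := if r then inv2 cd i else inv1 cd i

theorem inv1_eq {cd cd' : Fin n → Fin n → ℕ} {s : Perm (Fin n)} (h : ∀ i j, cd (s i) (s j) = cd' i j) (i : Fin n) :
    inv1 cd (s i) = inv1 cd' i := by
  unfold inv1
  rw [← Equiv.sum_comp s]
  simp only [h]

theorem invr_eq (r : Bool) {cd cd' : Fin n → Fin n → ℕ} {s : Perm (Fin n)} (h : ∀ i j, cd (s i) (s j) = cd' i j)
    (i : Fin n) : invr r cd (s i) = invr r cd' i := by
  unfold invr
  cases r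
  · exact inv1_eq h i
  · simp only [if_true]
    unfold inv2
    rw [← Equiv.sum_comp s]
    simp only [h, inv1_eq h]

/-- the colour of a pair of points with respect to five partitions -/
def code (f : Fin n → Fin 4) (g : Fin 4 → Fin n → Fin 4) (i j : Fin n) : ℕ :=
  (if f i = f j then 1 else 0) + (if g 0 i = g 0 j then 2 else 0) + (if g 1 i = g 1 j then 4 else 0) +
    (if g 2 i = g 2 j then 8 else 0) + (if g 3 i = g 3 j then 16 else 0)

/-- the labelling coded by a number -/
def lab (n N : ℕ) (i : Fin n) : Fin 4 := ⟨(N >>> (2 * i.val)) % 4, Nat.mod_lt _ (by decide)⟩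

/-- the size of a fibre -/
def fib (f : Fin n → Fin 4) (t : Fin 4) : ℕ := (Finset.univ.filter fun i => f i = t).card

/-- every partition of shape `m` has a stabiliser with `Seven` -/
def Cert (n : ℕ) (m : Fin 4 → ℕ) : Prop :=
  ∀ f : Fin n → Fin 4, (∀ t, fib f t = m t) → Seven (alternatingGroup (Fin n)) (pstab f)

theorem cert_of (m : Fin 4 → ℕ) (r : Bool) (f0 : Fin n → Fin 4) (g : Fin 7 → Fin 4 → Fin n → Fin 4)
    (a b : Fin n) (hab : a ≠ b) (hf0 : f0 a = f0 b) (h0 : ∀ t, fib f0 t = m t) (hg : ∀ c k t, fib (g c k) t = m t)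
    (hinj : ∀ c c' i i', invr r (code f0 (g c)) i = invr r (code f0 (g c')) i' → c = c' ∧ i = i') : Cert n m := by
  intro f hf
  obtain ⟨y, hy⟩ := exists_perm_of_fibre (f := f) (g := f0) fun t => (hf t).trans (h0 t).symm
  have hx : ∀ c k, ∃ x ∈ alternatingGroup (Fin n), ∀ i, g c k (x i) = f0 i := fun c k =>
    exists_even_of_fibre hab hf0 fun t => (h0 t).trans (hg c k t).symm
  choose x hxA hx using hx
  refine ⟨fun c k => y⁻¹ * x c k * y, fun c k => ?_, fun s hs c c' hi => ?_⟩
  · have := (inferInstance : (alternatingGroup (Fin n)).Normal).conj_mem _ (hxA c k) y⁻¹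
    rwa [inv_inv] at this
  · have key0 : ∀ u v, f0 ((y * s * y⁻¹) u) = f0 ((y * s * y⁻¹) v) ↔ f0 u = f0 v := by
      intro u v
      have h1 := hs (y⁻¹ u) (y⁻¹ v)
      rw [← hy, ← hy, ← hy (y⁻¹ u), ← hy (y⁻¹ v)] at h1
      simpa using h1
    have key : ∀ k u v, g c k ((y * s * y⁻¹) u) = g c k ((y * s * y⁻¹) v) ↔ g c' k u = g c' k v := by
      intro k u v
      have h1 := hi k ((y⁻¹ * x c' k * y)⁻¹ (y⁻¹ u)) ((y⁻¹ * x c' k * y)⁻¹ (y⁻¹ v))
      have e1 : ∀ w, f (((y⁻¹ * x c k * y)⁻¹ * s * (y⁻¹ * x c' k * y)) ((y⁻¹ * x c' k * y)⁻¹ (y⁻¹ w))) =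
          g c k ((y * s * y⁻¹) w) := by
        intro w
        rw [← hy, ← hx c k]
        simp
      have e2 : ∀ w, f ((y⁻¹ * x c' k * y)⁻¹ (y⁻¹ w)) = g c' k w := by
        intro w
        rw [← hy, ← hx c' k]
        simp
      rwa [e1, e1, e2, e2] at h1
    have hcd : ∀ u v, code f0 (g c) ((y * s * y⁻¹) u) ((y * s * y⁻¹) v) = code f0 (g c') u v := by
      intro u v
      unfold code
      simp only [key0, key]
    have h2 := fun u => hinj c c' _ _ (invr_eq r hcd u)
    refine ⟨(h2 a).1, ?_⟩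
    have h3 : y * s * y⁻¹ = 1 := Equiv.ext fun u => (h2 u).2
    exact conj_eq_one_iff.1 h3

end cert

end Cfsg.Agent.SB.Alt
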