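import Cfsg.Agent.SB.Trans
import Cfsg.Agent.Lib.AltCarmichael

/-!
# S5765, alternating row: `A₆` (helper96)

An automorphism of `A₆` which stabilises four suitable conjugates of one of five invariant sets (an involution, the
non-trivial elements of one of the two four-groups, of a Sylow 5-subgroup or of a Sylow 3-subgroup) is trivial.  No model
of `Aut A₆` is used: an automorphism is determined by the images of three generators.
-/

set_option autoImplicit false

namespace Cfsg.Agent.SB.Alt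

open Subgroup Equiv Equiv.Perm Cfsg Cfsg.Agent.H786.FC Cfsg.Agent.Lib.AltCarmichael

/-- `S₆` -/
abbrev P6 := Perm (Fin 6)

/-- `A₆` -/
abbrev K6 := ↥(alternatingGroup (Fin 6))

/-- the table coded by a number -/
def tb (N : ℕ) (i : Fin 6) : Fin 6 := Fin.ofNat 6 ((N >>> (3 * i.val)) % 8)

/-- the permutation with given table and inverse table -/
def pm (N M : ℕ) (h1 : ∀ i, tb M (tb N i) = i := by decide) (h2 : ∀ i, tb N (tb M i) = i := by decide) : P6 :=
  ⟨tb N, tb M, h1, h2⟩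

/-- the value of a word -/
def ev {G : Type*} [Group G] (b : Fin 3 → G) (w : List (Fin 3)) : G := (w.map b).prod

theorem map_ev {G H : Type*} [Group G] [Group H] (f : G →* H) (b : Fin 3 → G) (w : List (Fin 3)) :
    f (ev b w) = ev (fun i => f (b i)) w := by
  unfold ev
  rw [map_list_prod, List.map_map]
  rfl

/-- `S` stabilises the set `L` -/
def Stab (L : List P6) (S : Subgroup (MulAut K6)) : Prop :=
  ∀ s ∈ S, ∀ g : K6, (g : P6) ∈ L → ((s g : K6) : P6) ∈ L

theorem Stab.conj {L : List P6} {S : Subgroup (MulAut K6)} (h : Stab L S) {s : MulAut K6} {u : K6}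
    (hs : (MulAut.conj u)⁻¹ * s * MulAut.conj u ∈ S) {g : K6} (hg : (u : P6)⁻¹ * g * u ∈ L) :
    (u : P6)⁻¹ * (s g : K6) * u ∈ L := by
  have h1 := h _ hs (u⁻¹ * g * u) hg
  have e : ((MulAut.conj u)⁻¹ * s * MulAut.conj u) (u⁻¹ * g * u) = u⁻¹ * s g * u := by
    rw [MulAut.mul_apply, MulAut.mul_apply, MulAut.conj_inv_apply, MulAut.conj_apply]
    congr 3
    group
  rw [e] at h1
  exact h1

theorem aut_eq_one {s : MulAut K6} (h : ∀ i : Fin 4, ∃ g : K6, (g : P6) = cyc 4 i ∧ s g = g) : s = 1 := by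
  have h1 : gen 4 (cyc 4) ≤ (s.toMonoidHom.eqLocus (MonoidHom.id K6)).map (alternatingGroup (Fin 6)).subtype := by
    rw [gen_def, closure_le]
    rintro _ ⟨i, hi, rfl⟩
    obtain ⟨g, hg, hsg⟩ := h ⟨i, hi⟩
    exact ⟨g, hsg, hg⟩
  rw [gen_cyc 4 (by norm_num)] at h1
  ext1 g
  obtain ⟨g', hg', he⟩ := h1 g.2
  have : g' = g := Subtype.ext he
  rw [← this]
  exact hg'

theorem seven_of_cert (L : List P6) (t : Fin 4 → P6) (a : Fin 3 → P6) (conds : List (List (Fin 3) × Fin 4))
    (gw : Fin 4 → List (Fin 3)) (y : Fin 7 → P6)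
    (hE : t 0 = 1 ∧ (∀ k, sign (t k) = 1) ∧ (∀ c, sign (y c) = 1) ∧ ∀ g ∈ L, sign g = 1)
    (hA : (∀ i : Fin 3, (t i.castSucc)⁻¹ * a i * t i.castSucc ∈ L) ∧
      (∀ p ∈ conds, (t p.2)⁻¹ * ev a p.1 * t p.2 ∈ L) ∧ ∀ i : Fin 4, ev a (gw i) = cyc 4 i)
    (hM : ∀ σ0 ∈ L, ∀ σ1 ∈ L, ∀ σ2 ∈ L, (∀ p ∈ conds, (t p.2)⁻¹ *
      ev ![t 0 * σ0 * (t 0)⁻¹, t 1 * σ1 * (t 1)⁻¹, t 2 * σ2 * (t 2)⁻¹] p.1 * t p.2 ∈ L) →
      t 0 * σ0 * (t 0)⁻¹ = a 0 ∧ t 1 * σ1 * (t 1)⁻¹ = a 1 ∧ t 2 * σ2 * (t 2)⁻¹ = a 2)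
    (hY : ∀ c c', (∀ g ∈ L, (y c)⁻¹ * y c' * g * ((y c)⁻¹ * y c')⁻¹ ∈ L) → c = c')
    {S : Subgroup (MulAut K6)} (h : Stab L S) : Seven (InnG K6) S := by
  obtain ⟨h0, hEt, hEy, hEL⟩ := hE
  obtain ⟨hA1, hA2, hA3⟩ := hA
  let T : Fin 4 → K6 := fun k => ⟨t k, mem_alternatingGroup.2 (hEt k)⟩
  let Y : Fin 7 → K6 := fun c => ⟨y c, mem_alternatingGroup.2 (hEy c)⟩
  have hEa : ∀ i, sign (a i) = 1 := by
    intro i
    have h1 := hEL _ (hA1 i)
    rwa [map_mul, map_mul, map_inv, hEt, inv_one, one_mul, mul_one] at h1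
  let A : Fin 3 → K6 := fun i => ⟨a i, mem_alternatingGroup.2 (hEa i)⟩
  have key : ∀ s : MulAut K6, (∀ k, (MulAut.conj (T k))⁻¹ * s * MulAut.conj (T k) ∈ S) → s = 1 := by
    intro s hs
    have hb : ∀ i : Fin 3, (t i.castSucc)⁻¹ * (s (A i) : K6) * t i.castSucc ∈ L := fun i =>
      h.conj (u := T i.castSucc) (hs _) (hA1 i)
    have e : ∀ u v : P6, u * (u⁻¹ * v * u) * u⁻¹ = v := fun u v => by group
    have hevA : ∀ w, ((ev A w : K6) : P6) = ev a w := fun w => map_ev (alternatingGroup (Fin 6)).subtype A w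
    have hevs : ∀ w, ((s (ev A w) : K6) : P6) = ev (fun i => ((s (A i) : K6) : P6)) w := fun w =>
      map_ev ((alternatingGroup (Fin 6)).subtype.comp s.toMonoidHom) A w
    have h1 := hM _ (hb 0) _ (hb 1) _ (hb 2) (fun p hp => by
      have h2 := h.conj (u := T p.2) (g := ev A p.1) (hs _) (by rw [hevA]; exact hA2 p hp)
      rw [hevs] at h2
      have e2 : (fun i => ((s (A i) : K6) : P6)) =
          ![t 0 * ((t (Fin.castSucc (0 : Fin 3)))⁻¹ * (s (A 0) : K6) * t (Fin.castSucc (0 : Fin 3))) * (t 0)⁻¹,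
            t 1 * ((t (Fin.castSucc (1 : Fin 3)))⁻¹ * (s (A 1) : K6) * t (Fin.castSucc (1 : Fin 3))) * (t 1)⁻¹,
            t 2 * ((t (Fin.castSucc (2 : Fin 3)))⁻¹ * (s (A 2) : K6) * t (Fin.castSucc (2 : Fin 3))) * (t 2)⁻¹] := by
        funext i
        fin_cases i
        exacts [(e _ _).symm, (e _ _).symm, (e _ _).symm]
      rw [e2] at h2
      exact h2)
    have h3 : (fun i => ((s (A i) : K6) : P6)) = a := by
      funext i
      fin_cases i
      exacts [(e _ _).symm.trans h1.1, (e _ _).symm.trans h1.2.1, (e _ _).symm.trans h1.2.2]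
    refine aut_eq_one fun i => ⟨ev A (gw i), (hevA _).trans (hA3 i), Subtype.ext ?_⟩
    rw [hevs, h3, hevA]
  refine ⟨fun c => ![MulAut.conj (T 1), MulAut.conj (T 2), MulAut.conj (T 3), MulAut.conj (Y c)], fun c i => ?_,
    fun s hs c c' hi => ?_⟩
  · fin_cases i
    exacts [⟨_, rfl⟩, ⟨_, rfl⟩, ⟨_, rfl⟩, ⟨_, rfl⟩]
  · have h1 : s = 1 := by
      refine key s fun k => ?_
      fin_cases k
      · have : T 0 = 1 := Subtype.ext h0
        change (MulAut.conj (T 0))⁻¹ * s * MulAut.conj (T 0) ∈ S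
        rw [this, map_one, inv_one, one_mul, mul_one]
        exact hs
      exacts [hi 0, hi 1, hi 2]
    refine ⟨hY c c' fun g hg => ?_, h1⟩
    have h2 : (MulAut.conj (Y c))⁻¹ * s * MulAut.conj (Y c') ∈ S := hi 3
    rw [h1, mul_one, ← map_inv, ← map_mul] at h2
    exact h _ h2 ⟨g, mem_alternatingGroup.2 (hEL g hg)⟩ hg

/-- the invariant set of type 2 -/
def L2 : List P6 := [pm 181441 181441]

theorem seven2 {S : Subgroup (MulAut K6)} (h : Stab L2 S) : Seven (InnG K6) S :=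
  seven_of_cert L2 ![pm 181896 181896, pm 72472 107360, pm 84547 115025, pm 98981 6812]
    ![pm 181441 181441, pm 151691 151691, pm 49323 49323]
    []
    ![[0, 1, 2, 0], [1, 2], [1, 2, 0, 1, 0, 1, 2], [1, 0, 2, 1, 0, 1]]
    ![pm 66284 34140, pm 21274 139805, pm 139371 53523, pm 166097 177220, pm 106597 6931, pm 174280 177416, pm 144005 22681]
    (by decide +kernel) (by decide +kernel) (by decide +kernel) (by decide +kernel) h

/-- the invariant set of type A -/
def LA : List P6 := [pm 181441 181441, pm 180762 180762, pm 180307 180307]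

theorem sevenA {S : Subgroup (MulAut K6)} (h : Stab LA S) : Seven (InnG K6) S :=
  seven_of_cert LA ![pm 181896 181896, pm 86220 132427, pm 41196 34091, pm 80396 100682]
    ![pm 180762 180762, pm 168099 168099, pm 151691 151691]
    [([2, 0, 2], 0), ([1, 0, 2, 1, 0, 2], 3)]
    ![[2, 0, 2, 1, 0, 2], [1, 2], [1, 0, 2, 0, 1, 2, 1], [0, 1, 2, 0]]
    ![pm 69980 66403, pm 14673 79941, pm 22156 132749, pm 135402 54307, pm 86115 135507, pm 152643 151761, pm 140008 54552]
    (by decide +kernel) (by decide +kernel) (by decide +kernel) (by decide +kernel) h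

/-- the invariant set of type B -/
def LB : List P6 := [pm 181441 181441, pm 153217 153217, pm 152776 152776]

theorem sevenB {S : Subgroup (MulAut K6)} (h : Stab LB S) : Seven (InnG K6) S :=
  seven_of_cert LB ![pm 181896 181896, pm 152601 152258, pm 54804 132714, pm 34973 12972]
    ![pm 153217 153217, pm 152216 152216, pm 42792 42792]
    [([1, 0, 2, 1, 0, 2], 3)]
    ![[0, 1, 0, 2, 0, 1, 2], [0, 2, 1, 0, 2, 0, 1], [2, 0, 1, 2, 1, 0, 2, 1], [0, 1, 0, 2, 1, 0, 2]]
    ![pm 53523 139371, pm 173580 165642, pm 133834 119820, pm 10571 78093, pm 106597 6931, pm 103720 43744, pm 165068 165068]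
    (by decide +kernel) (by decide +kernel) (by decide +kernel) (by decide +kernel) h

/-- the invariant set of type 5 -/
def L5 : List P6 := [pm 166097 177220, pm 168218 172579, pm 172579 168218, pm 177220 166097]

theorem seven5 {S : Subgroup (MulAut K6)} (h : Stab L5 S) : Seven (InnG K6) S :=
  seven_of_cert L5 ![pm 181896 181896, pm 49365 17515, pm 18005 18005, pm 22681 144005]
    ![pm 177220 166097, pm 132427 86220, pm 43744 103720]
    [([1, 0, 2], 3)]
    ![[1, 0, 0, 0, 2, 1], [1, 0, 2, 1, 0], [1, 0, 2, 2], [2, 2, 1, 0]]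
    ![pm 5475 69861, pm 132945 87620, pm 115522 84505, pm 170178 177185, pm 43205 13609, pm 10473 46341, pm 169744 173664]
    (by decide +kernel) (by decide +kernel) (by decide +kernel) (by decide +kernel) h

/-- the invariant set of type 3 -/
def L3 : List P6 := [pm 120968 146056, pm 146056 120968, pm 181777 181826, pm 120849 145986, pm 145937 120898, pm 181826 181777, pm 120898 145937, pm 145986 120849]

theorem seven3 {S : Subgroup (MulAut K6)} (h : Stab L3 S) : Seven (InnG K6) S :=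
  seven_of_cert L3 ![pm 181896 181896, pm 11033 107269, pm 55427 143529, pm 168218 172579]
    ![pm 145986 120849, pm 6490 78373, pm 181259 180426]
    [([2, 1, 0], 3), ([1, 2, 0], 2)]
    ![[0, 0, 1, 2, 0, 1], [1, 2, 0, 2], [1, 2, 1, 1], [1, 0, 0, 1, 2]]
    ![pm 168988 164578, pm 22681 144005, pm 47748 100521, pm 140869 22289, pm 144005 22681, pm 43205 13609, pm 78177 72003]
    (by decide +kernel) (by decide +kernel) (by decide +kernel) (by decide +kernel) h

end Cfsg.Agent.SB.Alt
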